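import Mathlib.Algebra.Homology.HomotopyCategory.MappingCocone
import Mathlib.Algebra.Homology.HomotopyCategory.Shift
import Mathlib.Algebra.Homology.HomotopyCategory
import Mathlib.Algebra.Homology.HomologicalComplexBiprod
import Mathlib.Algebra.Homology.Embedding.CochainComplex

/-!
# Termwise split factorizations
-/

universe v u

set_option autoImplicit false
set_option linter.unusedSectionVars false
set_option linter.unusedSimpArgs false
set_option backward.isDefEq.respectTransparency false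
set_option backward.isDefEq.respectTransparency.types false

open CategoryTheory CategoryTheory.Limits CochainComplex CochainComplex.HomComplex

namespace Groth.Agent.DSites.Fact

noncomputable section

variable {V : Type u} [Category.{v} V] [Preadditive V] [HasBinaryBiproducts V] [HasZeroObject V]

/-- The cone of an identity is contractible. -/
def coneContract (K : CochainComplex V ℤ) : Homotopy (𝟙 (mappingCone (𝟙 K))) 0 :=
  mappingCone.descHomotopy (𝟙 K) _ _ 0 (mappingCone.inl (𝟙 K))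
    (by simp) (by simp)

/-- The cocone of an identity is contractible. -/
def coconeContract (K : CochainComplex V ℤ) : Homotopy (𝟙 (mappingCocone (𝟙 K))) 0 :=
  HomotopyCategory.homotopyOfEq _ _ (by
    have h : IsZero ((HomotopyCategory.quotient V (ComplexShape.up ℤ)).obj (mappingCone (𝟙 K))) := by
      rw [IsZero.iff_id_eq_zero, ← CategoryTheory.Functor.map_id]
      exact (HomotopyCategory.eq_of_homotopy _ _ (coneContract K)).trans (Functor.map_zero _ _ _)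
    have h' : IsZero ((HomotopyCategory.quotient V (ComplexShape.up ℤ)).obj (mappingCocone (𝟙 K))) :=
      ((CategoryTheory.shiftFunctor _ (-1 : ℤ)).map_isZero h).of_iso
        (((HomotopyCategory.quotient V (ComplexShape.up ℤ)).commShiftIso (-1 : ℤ)).app _)
    exact h'.eq_of_src _ _)

variable {A B : CochainComplex V ℤ}

/-- The homotopy attached to a contractible summand. -/
def biprodHomotopy (h : Homotopy (𝟙 B) 0) :
    Homotopy (biprod.fst ≫ biprod.inl : A ⊞ B ⟶ A ⊞ B) (𝟙 (A ⊞ B)) :=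
  have e : (𝟙 (A ⊞ B)) = biprod.fst ≫ biprod.inl + biprod.snd ≫ 𝟙 B ≫ biprod.inr := by
    rw [Category.id_comp]; exact biprod.total.symm
  ((Homotopy.ofEq (add_zero (biprod.fst ≫ biprod.inl : A ⊞ B ⟶ A ⊞ B)).symm).trans
    ((Homotopy.refl (biprod.fst ≫ biprod.inl : A ⊞ B ⟶ A ⊞ B)).add
      ((Homotopy.ofEq (show (0 : A ⊞ B ⟶ A ⊞ B) = biprod.snd ≫ (0 : B ⟶ B) ≫ biprod.inr by simp)).trans
        (((h.compRight (biprod.inr : B ⟶ A ⊞ B)).compLeft (biprod.snd : A ⊞ B ⟶ B)).symm)))).trans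
    (Homotopy.ofEq e.symm)

lemma hom_ext_f {n : ℤ} {W : V} {p q : W ⟶ (A ⊞ B).X n}
    (h₁ : p ≫ (biprod.fst : A ⊞ B ⟶ A).f n = q ≫ (biprod.fst : A ⊞ B ⟶ A).f n)
    (h₂ : p ≫ (biprod.snd : A ⊞ B ⟶ B).f n = q ≫ (biprod.snd : A ⊞ B ⟶ B).f n) : p = q := by
  have e := congrArg (fun (t : A ⊞ B ⟶ A ⊞ B) => t.f n) (biprod.total (X := A) (Y := B))
  simp only [HomologicalComplex.add_f_apply, HomologicalComplex.comp_f, HomologicalComplex.id_f] at e
  rw [← Category.comp_id p, ← Category.comp_id q, ← e, Preadditive.comp_add, Preadditive.comp_add,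
    reassoc_of% h₁, reassoc_of% h₂]

lemma isZero_X {n : ℤ} (hA : IsZero (A.X n)) (hB : IsZero (B.X n)) : IsZero ((A ⊞ B).X n) :=
  (IsZero.iff_id_eq_zero _).2 (hom_ext_f (hA.eq_of_tgt _ _) (hB.eq_of_tgt _ _))

lemma inl_fst_f (n : ℤ) : (biprod.inl : A ⟶ A ⊞ B).f n ≫ (biprod.fst : A ⊞ B ⟶ A).f n = 𝟙 _ := by
  rw [← HomologicalComplex.comp_f, biprod.inl_fst]; rfl
lemma inl_snd_f (n : ℤ) : (biprod.inl : A ⟶ A ⊞ B).f n ≫ (biprod.snd : A ⊞ B ⟶ B).f n = 0 := by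
  rw [← HomologicalComplex.comp_f, biprod.inl_snd]; rfl
lemma inr_fst_f (n : ℤ) : (biprod.inr : B ⟶ A ⊞ B).f n ≫ (biprod.fst : A ⊞ B ⟶ A).f n = 0 := by
  rw [← HomologicalComplex.comp_f, biprod.inr_fst]; rfl
lemma inr_snd_f (n : ℤ) : (biprod.inr : B ⟶ A ⊞ B).f n ≫ (biprod.snd : A ⊞ B ⟶ B).f n = 𝟙 _ := by
  rw [← HomologicalComplex.comp_f, biprod.inr_snd]; rfl

theorem injective_factorization (K L : CochainComplex V ℤ) (α : K ⟶ L) :
    ∃ (L' : CochainComplex V ℤ) (α' : K ⟶ L') (π : L' ⟶ L) (s : L ⟶ L'),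
      α' ≫ π = α ∧ s ≫ π = 𝟙 L ∧ Nonempty (Homotopy (π ≫ s) (𝟙 L')) ∧
      (∀ n : ℤ, ∃ (C : V) (e : L'.X n ≅ K.X n ⊞ C), α'.f n ≫ e.hom = biprod.inl) ∧
      (∀ a : ℤ, K.IsStrictlyGE a → L.IsStrictlyGE a → ∃ a' : ℤ, L'.IsStrictlyGE a') ∧
      (∀ a : ℤ, K.IsStrictlyLE a → L.IsStrictlyLE a → ∃ a' : ℤ, L'.IsStrictlyLE a') := by
  let M := mappingCone (𝟙 K)
  let α' : K ⟶ L ⊞ M := biprod.lift α (mappingCone.inr (𝟙 K))
  have a₁ : ∀ n, α'.f n ≫ (biprod.fst : L ⊞ M ⟶ L).f n = α.f n := fun n => by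
    rw [← HomologicalComplex.comp_f, biprod.lift_fst]
  have a₂ : ∀ n, α'.f n ≫ (biprod.snd : L ⊞ M ⟶ M).f n = (mappingCone.inr (𝟙 K)).f n := fun n => by
    rw [← HomologicalComplex.comp_f, biprod.lift_snd]
  refine ⟨L ⊞ M, α', biprod.fst, biprod.inl, biprod.lift_fst _ _, biprod.inl_fst,
    ⟨biprodHomotopy (coneContract K)⟩, fun n => ?_, fun a hK hL => ⟨a - 1, ?_⟩, fun a hK hL => ⟨a, ?_⟩⟩
  · let σ : M.X n ⟶ K.X n := (mappingCone.snd (𝟙 K)).v n n (add_zero n)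
    let τ : M.X n ⟶ K.X (n + 1) := (mappingCone.fst (𝟙 K)).1.v n (n + 1) rfl
    let j : K.X (n + 1) ⟶ M.X n := (mappingCone.inl (𝟙 K)).v (n + 1) n (by omega)
    let F₁ := (biprod.fst : L ⊞ M ⟶ L).f n
    let F₂ := (biprod.snd : L ⊞ M ⟶ M).f n
    refine ⟨L.X n ⊞ K.X (n + 1),
      { hom := biprod.lift (F₂ ≫ σ) (biprod.lift (F₁ - F₂ ≫ σ ≫ α.f n) (F₂ ≫ τ))
        inv := biprod.desc (α'.f n) (biprod.desc ((biprod.inl : L ⟶ L ⊞ M).f n) (j ≫ (biprod.inr : M ⟶ L ⊞ M).f n))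
        hom_inv_id := ?_
        inv_hom_id := ?_ }, ?_⟩
    · refine hom_ext_f ?_ ?_
      · simp [biprod.lift_desc, F₁, F₂, a₁, inl_fst_f, inr_fst_f]
      · have := mappingCone.id_X (𝟙 K) n (n + 1) rfl
        simp [biprod.lift_desc, F₁, F₂, σ, τ, j, a₂, inl_snd_f, inr_snd_f]
        rw [← Preadditive.comp_add, add_comm, this, Category.comp_id]
    · apply biprod.hom_ext' <;> apply biprod.hom_ext <;> (try apply biprod.hom_ext) <;>
        (try apply biprod.hom_ext') <;>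
        simp [F₁, F₂, σ, τ, j, a₁, a₂, reassoc_of% a₁, reassoc_of% a₂, inl_fst_f, inl_snd_f, inr_fst_f, inr_snd_f,
          reassoc_of% (inl_snd_f (A := L) (B := M) n), reassoc_of% (inr_snd_f (A := L) (B := M) n)]
    · apply biprod.hom_ext <;> (try apply biprod.hom_ext) <;>
        simp [F₁, F₂, σ, τ, a₁, a₂, reassoc_of% a₁, reassoc_of% a₂]
  · rw [CochainComplex.isStrictlyGE_iff]
    intro i hi
    refine isZero_X (L.isZero_of_isStrictlyGE a i (by omega)) ((IsZero.iff_id_eq_zero _).2 ?_)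
    rw [← mappingCone.id_X (𝟙 K) i (i + 1) rfl,
      (K.isZero_of_isStrictlyGE a (i + 1) (by omega)).eq_of_tgt ((mappingCone.fst (𝟙 K)).1.v i (i + 1) rfl) 0,
      (K.isZero_of_isStrictlyGE a i (by omega)).eq_of_tgt ((mappingCone.snd (𝟙 K)).v i i (add_zero i)) 0,
      zero_comp, zero_comp, add_zero]
  · rw [CochainComplex.isStrictlyLE_iff]
    intro i hi
    refine isZero_X (L.isZero_of_isStrictlyLE a i (by omega)) ((IsZero.iff_id_eq_zero _).2 ?_)
    rw [← mappingCone.id_X (𝟙 K) i (i + 1) rfl,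
      (K.isZero_of_isStrictlyLE a (i + 1) (by omega)).eq_of_tgt ((mappingCone.fst (𝟙 K)).1.v i (i + 1) rfl) 0,
      (K.isZero_of_isStrictlyLE a i (by omega)).eq_of_tgt ((mappingCone.snd (𝟙 K)).v i i (add_zero i)) 0,
      zero_comp, zero_comp, add_zero]

theorem surjective_factorization (K L : CochainComplex V ℤ) (α : K ⟶ L) :
    ∃ (K' : CochainComplex V ℤ) (i : K ⟶ K') (α' : K' ⟶ L) (s : K' ⟶ K),
      i ≫ α' = α ∧ i ≫ s = 𝟙 K ∧ Nonempty (Homotopy (s ≫ i) (𝟙 K')) ∧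
      (∀ n : ℤ, ∃ (C : V) (e : K'.X n ≅ C ⊞ L.X n), e.inv ≫ α'.f n = biprod.snd) ∧
      (∀ a : ℤ, K.IsStrictlyGE a → L.IsStrictlyGE a → ∃ a' : ℤ, K'.IsStrictlyGE a') ∧
      (∀ a : ℤ, K.IsStrictlyLE a → L.IsStrictlyLE a → ∃ a' : ℤ, K'.IsStrictlyLE a') := by
  let M := mappingCocone (𝟙 L)
  let α' : K ⊞ M ⟶ L := biprod.desc α (mappingCocone.fst (𝟙 L))
  have a₁ : ∀ n, (biprod.inl : K ⟶ K ⊞ M).f n ≫ α'.f n = α.f n := fun n => by
    rw [← HomologicalComplex.comp_f, biprod.inl_desc]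
  have a₂ : ∀ n, (biprod.inr : M ⟶ K ⊞ M).f n ≫ α'.f n = (mappingCocone.fst (𝟙 L)).f n := fun n => by
    rw [← HomologicalComplex.comp_f, biprod.inr_desc]
  refine ⟨K ⊞ M, biprod.inl, α', biprod.fst, biprod.inl_desc _ _, biprod.inl_fst,
    ⟨biprodHomotopy (coconeContract L)⟩, fun n => ?_, fun a hK hL => ⟨a, ?_⟩, fun a hK hL => ⟨a + 1, ?_⟩⟩
  · let ρ : L.X (n + -1) ⟶ M.X n := (mappingCocone.inr (𝟙 L)).1.v (n + -1) n (by omega)
    let ι : L.X n ⟶ M.X n := (mappingCocone.inl (𝟙 L)).v n n (add_zero n)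
    let σ : M.X n ⟶ L.X (n + -1) := (mappingCocone.snd (𝟙 L)).v n (n + -1) rfl
    let F₁ := (biprod.fst : K ⊞ M ⟶ K).f n
    let F₂ := (biprod.snd : K ⊞ M ⟶ M).f n
    let I₁ := (biprod.inl : K ⟶ K ⊞ M).f n
    let I₂ := (biprod.inr : M ⟶ K ⊞ M).f n
    have htot : α'.f n = F₁ ≫ α.f n + F₂ ≫ (mappingCocone.fst (𝟙 L)).f n :=
      congrArg (fun t : K ⊞ M ⟶ L => t.f n) (biprod.desc_eq (f := α) (g := mappingCocone.fst (𝟙 L)))
    refine ⟨K.X n ⊞ L.X (n + -1),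
      { hom := biprod.lift (biprod.lift F₁ (F₂ ≫ σ)) (α'.f n)
        inv := biprod.desc (biprod.desc (I₁ - α.f n ≫ ι ≫ I₂) (ρ ≫ I₂)) (ι ≫ I₂)
        hom_inv_id := ?_
        inv_hom_id := ?_ }, ?_⟩
    · refine hom_ext_f ?_ ?_
      · simp [biprod.lift_desc, htot, F₁, F₂, I₁, I₂, inl_fst_f, inr_fst_f]
      · have := mappingCocone.id_X (𝟙 L) n (n + -1) rfl
        simp [biprod.lift_desc, htot, F₁, F₂, I₁, I₂, σ, ρ, ι, inl_snd_f, inr_snd_f]
        have h' := ((Preadditive.comp_add _ _ _ ((biprod.snd : K ⊞ M ⟶ M).f n) _ _).symm.trans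
          (congrArg ((biprod.snd : K ⊞ M ⟶ M).f n ≫ ·) this)).trans (Category.comp_id _)
        refine Eq.trans ?_ h'
        abel
    · apply biprod.hom_ext' <;> apply biprod.hom_ext <;> (try apply biprod.hom_ext') <;>
        (try apply biprod.hom_ext) <;>
        simp [F₁, F₂, I₁, I₂, σ, ρ, ι, a₁, a₂, inl_fst_f, inl_snd_f, inr_fst_f, inr_snd_f,
          reassoc_of% (inl_snd_f (A := K) (B := M) n), reassoc_of% (inr_snd_f (A := K) (B := M) n)]
    · apply biprod.hom_ext' <;> (try apply biprod.hom_ext') <;> simp [I₁, I₂, ι, ρ, a₁, a₂]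
  · rw [CochainComplex.isStrictlyGE_iff]
    intro i hi
    refine isZero_X (K.isZero_of_isStrictlyGE a i (by omega)) ((IsZero.iff_id_eq_zero _).2 ?_)
    rw [← mappingCocone.id_X (𝟙 L) i (i + -1) rfl,
      (L.isZero_of_isStrictlyGE a i (by omega)).eq_of_tgt ((mappingCocone.fst (𝟙 L)).f i) 0,
      (L.isZero_of_isStrictlyGE a (i + -1) (by omega)).eq_of_tgt ((mappingCocone.snd (𝟙 L)).v i (i + -1) rfl) 0,
      zero_comp, zero_comp, add_zero]
  · rw [CochainComplex.isStrictlyLE_iff]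
    intro i hi
    refine isZero_X (K.isZero_of_isStrictlyLE a i (by omega)) ((IsZero.iff_id_eq_zero _).2 ?_)
    rw [← mappingCocone.id_X (𝟙 L) i (i + -1) rfl,
      (L.isZero_of_isStrictlyLE a i (by omega)).eq_of_tgt ((mappingCocone.fst (𝟙 L)).f i) 0,
      (L.isZero_of_isStrictlyLE a (i + -1) (by omega)).eq_of_tgt ((mappingCocone.snd (𝟙 L)).v i (i + -1) rfl) 0,
      zero_comp, zero_comp, add_zero]

end

end Groth.Agent.DSites.Fact
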